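import Cfsg.Agent.H715.Fpr.Row4
import Cfsg.Agent.H940.EngData
import Cfsg.Agent.H836.Main
import Cfsg.Agent.S1696

/-!
# Fixed point ratios: `Fi22` (helper433)
-/

set_option autoImplicit false

namespace Cfsg.Agent.H433.Fpr.Fi22

open Subgroup Cfsg.Agent.H409 Cfsg.Agent.OrdDiv Cfsg.Agent.H940.Eng Cfsg.Agent.H940.Eng.D Cfsg.Agent.H715.Fpr Cfsg.Spor

abbrev G : Type := Cfsg.Spor.Fi22

theorem simple : IsSimpleGroup G := Cfsg.Agent.S1696.result.1
theorem card : Nat.card G = n_fi22 := Cfsg.Agent.S1696.result.2
theorem fin : Finite G := Nat.finite_of_card_ne_zero (by rw [card]; decide)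

theorem cn7 {R : Subgroup G} (hR : Nat.card R = 7) :
    Nat.card (centralizer (R : Set G)) = 42 ∧ Nat.card (normalizer (R : Set G)) = 252 := by
  have I := H836.inv_of_iso (MulEquiv.refl G)
  refine ⟨?_, H836.Main.card_normalizer_seven I hR⟩
  obtain ⟨y, hy, hy1, -, rfl⟩ := H836.Main.exists_gen (by norm_num) hR
  rw [cent_zpowers']
  exact I.card_seven hy hy1

theorem cn11 {R : Subgroup G} (hR : Nat.card R = 11) :
    Nat.card (centralizer (R : Set G)) = 22 ∧ Nat.card (normalizer (R : Set G)) = 110 := by
  have I := H836.inv_of_iso (MulEquiv.refl G)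
  refine ⟨?_, H836.Main.card_normalizer_eleven I hR⟩
  obtain ⟨y, hy, hy1, -, rfl⟩ := H836.Main.exists_gen (by norm_num) hR
  rw [cent_zpowers']
  exact I.card_eleven hy hy1

theorem cn13 {R : Subgroup G} (hR : Nat.card R = 13) :
    Nat.card (centralizer (R : Set G)) = 13 ∧ Nat.card (normalizer (R : Set G)) = 78 := by
  obtain ⟨h1, h2⟩ := (H836.Main.thirteen_concl (MulEquiv.refl G)).2 R hR
  exact ⟨by rw [h2, hR], h1⟩

def loc : List LD := [⟨13, 13, [(2, 1), (3, 1), (13, 1)]⟩, ⟨11, 22, [(2, 1), (5, 1), (11, 1)]⟩,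
  ⟨7, 42, [(2, 2), (3, 2), (7, 1)]⟩]

theorem ctx (B : Base) : Ctx G l_fi22 n_fi22 o_fi22 loc where
  fin := fin
  simple := simple
  card := card
  val := v_fi22
  nodup := nd_fi22
  ords := ords_fi22 B
  loc := by
    have := fin
    have := simple
    intro ld hld
    simp only [loc, List.mem_cons, List.not_mem_nil, or_false] at hld
    rcases hld with rfl | rfl | rfl
    · exact loc_of_eq card (by decide +kernel) (by decide +kernel) (by decide +kernel) fun R hR => by
        obtain ⟨h1, h2⟩ := cn13 hR
        rw [h1, h2]; decide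
    · exact loc_of_eq card (by decide +kernel) (by decide +kernel) (by decide +kernel) fun R hR => by
        obtain ⟨h1, h2⟩ := cn11 hR
        rw [h1, h2]; decide
    · exact loc_of_eq card (by decide +kernel) (by decide +kernel) (by decide +kernel) fun R hR => by
        obtain ⟨h1, h2⟩ := cn7 hR
        rw [h1, h2]; decide

theorem row2 (B : Base) : FprRow 3 1 2 G := by
  have := fin
  exact row_of_act3 (ctx B) (q := 13) (N := 78) (by decide +kernel) (by decide +kernel) (by decide +kernel)
    (acts_of card (by decide +kernel) (by decide +kernel) (by decide +kernel) (fun _ hR => cn13 hR) 1 (by decide +kernel))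
    (fun _ hR => (cn13 hR).2) 22 0 lb_zero [] 40 (by decide +kernel) (by decide +kernel)

theorem row3 (B : Base) : FprRow 4 1 3 G := by
  have := fin
  exact row_of_act3 (ctx B) (q := 13) (N := 78) (by decide +kernel) (by decide +kernel) (by decide +kernel)
    (acts_of card (by decide +kernel) (by decide +kernel) (by decide +kernel) (fun _ hR => cn13 hR) 1 (by decide +kernel))
    (fun _ hR => (cn13 hR).2) 32 0 lb_zero [] 40 (by decide +kernel) (by decide +kernel)

theorem row5 (B : Base) : FprRow 6 1 5 G := by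
  have := fin
  exact row_of_act3 (ctx B) (q := 11) (N := 110) (by decide +kernel) (by decide +kernel) (by decide +kernel)
    (acts_of card (by decide +kernel) (by decide +kernel) (by decide +kernel) (fun _ hR => cn11 hR) 1 (by decide +kernel))
    (fun _ hR => (cn11 hR).2) 120 0 lb_zero [] 40 (by decide +kernel) (by decide +kernel)

theorem row7 (B : Base) : FprRow 8 1 7 G :=
  row_of_norm3 (ctx B) (by decide +kernel) (by decide +kernel) (by decide +kernel) (fun _ hR => (cn7 hR).2)
    288 0 lb_zero [143, 144, 286] 40 (by decide +kernel) (by decide +kernel)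

theorem row11 (B : Base) : FprRow 12 1 11 G :=
  row_of_norm3 (ctx B) (by decide +kernel) (by decide +kernel) (by decide +kernel) (fun _ hR => (cn11 hR).2)
    120 0 lb_zero [] 40 (by decide +kernel) (by decide +kernel)

theorem row13 (B : Base) : FprRow 14 1 13 G :=
  row_of_norm3 (ctx B) (by decide +kernel) (by decide +kernel) (by decide +kernel) (fun _ hR => (cn13 hR).2)
    84 0 lb_zero [] 40 (by decide +kernel) (by decide +kernel)

/-- **the rows of `Fi22`** -/
theorem row (B : Base) {p : ℕ} (hp : p.Prime) (hd : p ∣ Nat.card G) : FprRow (p + 1) 1 p G := by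
  have h1 := valid_mem v_fi22 hp (by rw [← card]; exact hd)
  simp only [l_fi22, List.map_cons, List.map_nil, List.mem_cons, List.not_mem_nil, or_false] at h1
  rcases h1 with rfl | rfl | rfl | rfl | rfl | rfl
  · exact row2 B
  · exact row3 B
  · exact row5 B
  · exact row7 B
  · exact row11 B
  · exact row13 B

universe u in
/-- **the rows of `Fi22`, all primes** -/
theorem rowIso (B : Base) {S : Type u} [Group S] (h : Cfsg.Spor.IsoFi22 S) {p : ℕ} (hp : p.Prime)
    (hd : p ∣ Nat.card S) : FprRow (p + 1) 1 p S := by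
  obtain ⟨e⟩ := h
  have := fin
  exact (row B hp (by rw [← Nat.card_congr e.toEquiv]; exact hd)).of_mulEquiv hp e.symm

end Cfsg.Agent.H433.Fpr.Fi22
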