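import Cfsg.Agent.H715.Fpr.Row4
import Cfsg.Agent.H398.FPR.Growth
import Cfsg.Agent.H843.Syl

/-!
# Fixed point ratios from a subgroup (helper433)

* `chain` : `L → G`, `x ∈ L` of fixed point ratio at most `a / b` on every nontrivial transitive `L`-set, `u ∈ L`:
  `b fix(x) ≤ a n + b fix(u)` on `G / H`;
* `uGood_norm` : elements of order `p`, `p² ∤ |G|`, from the order of the normalizer and the small indices.
-/

set_option autoImplicit false

namespace Cfsg.Agent.H433.Fpr

open Subgroup MulAction Cfsg.Agent.H409 Cfsg.Agent.H940.Eng Cfsg.Agent.OrdDiv Cfsg.Agent.H715.Fpr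
open Cfsg.Agent.H398.FPR (UGood)

universe u v

/-- the indices of the proper subgroups below `K` -/
theorem idx_of {G : Type u} [Group G] {l : List (ℕ × ℕ)} {n : ℕ} {ords : List ℕ} {loc : List LD}
    (c : Ctx G l n ords loc) {K bd : ℕ} {exc : List ℕ}
    (hc : ((List.range K).all fun d => Nat.ble d 1 || n % d != 0 || exc.contains d ||
      bad l n [] bd loc ords (n / d)) = true)
    {H : Subgroup G} (hH : H ≠ ⊤) : H.index ∈ exc ∨ K ≤ H.index := by
  have := c.fin
  have := c.simple
  by_cases hK : K ≤ H.index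
  · exact Or.inr hK
  rw [List.all_eq_true] at hc
  have h1 := hc _ (List.mem_range.2 (not_le.1 hK))
  rw [Bool.or_eq_true, Bool.or_eq_true, Bool.or_eq_true, Nat.ble_eq, bne_iff_ne, List.contains_iff_mem] at h1
  have hdiv : n / H.index = Nat.card H := by
    rw [← c.card]
    exact Nat.div_eq_of_eq_mul_left (Nat.pos_of_ne_zero index_ne_zero_of_finite) (card_mul_index H).symm
  rcases h1 with ((h1 | h1) | h1) | h1
  · have h2 : H.index ≠ 0 := index_ne_zero_of_finite
    exact absurd (index_eq_one.1 (by omega)) hH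
  · exact absurd (Nat.mod_eq_zero_of_dvd (by rw [← c.card]; exact index_dvd_card H)) h1
  · exact Or.inl h1
  · rw [hdiv, not_bad c.val c.card c.ords c.loc (fun p hp => absurd hp List.not_mem_nil) hH] at h1
    exact absurd h1 (by decide)

/-- **Growth.** -/
theorem chain {G : Type u} [Group G] [Finite G] {L : Type v} [Group L] (f : L →* G) {a b : ℕ} {x : L}
    (hx : UGood a b x) (w : L) (H : Subgroup G) :
    b * Nat.card (fixedBy (G ⧸ H) (f x)) ≤ a * Nat.card (G ⧸ H) + b * Nat.card (fixedBy (G ⧸ H) (f w)) := by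
  classical
  let iM : MulAction L (G ⧸ H) := MulAction.compHom _ f
  have hs : ∀ (l : L) (z : G ⧸ H), l • z = f l • z := fun _ _ => rfl
  -- the points moved by `L`
  let X : SubMulAction L (G ⧸ H) :=
    { carrier := {z | ∃ l : L, l • z ≠ z}
      smul_mem' := by
        rintro g z ⟨l, hl⟩
        refine ⟨g * l * g⁻¹, fun h => hl ?_⟩
        rw [mul_smul, inv_smul_smul, mul_smul] at h
        exact smul_left_cancel g h }
  have hfin : Finite X := Finite.of_injective (fun z : X => (z : G ⧸ H)) Subtype.val_injective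
  have h1 := hx.sum (X := X) (by
    rintro ⟨z, l, hl⟩ h
    apply hl
    have h2 : l ∈ stabilizer L (⟨z, l, hl⟩ : X) := by rw [h]; trivial
    exact congrArg Subtype.val h2)
  have h2 : Nat.card X ≤ Nat.card (G ⧸ H) :=
    Nat.card_le_card_of_injective (fun z : X => (z : G ⧸ H)) Subtype.val_injective
  have h3 : Nat.card (fixedBy (G ⧸ H) (f x)) ≤ Nat.card (fixedBy X x) + Nat.card (fixedBy (G ⧸ H) (f w)) := by
    have h4 : fixedBy (G ⧸ H) (f x) ⊆ ((fun z : X => (z : G ⧸ H)) '' (fixedBy X x)) ∪ fixedBy (G ⧸ H) (f w) := by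
      intro z hz
      by_cases h5 : ∃ l : L, l • z ≠ z
      · exact Or.inl ⟨⟨z, h5⟩, Subtype.ext hz, rfl⟩
      · push Not at h5
        exact Or.inr (h5 w)
    rw [Nat.card_coe_set_eq, Nat.card_coe_set_eq, Nat.card_coe_set_eq]
    refine (Set.ncard_le_ncard h4 (Set.toFinite _)).trans ((Set.ncard_union_le _ _).trans ?_)
    exact Nat.add_le_add_right (Set.ncard_image_le (Set.toFinite _)) _
  calc b * Nat.card (fixedBy (G ⧸ H) (f x)) ≤ b * (Nat.card (fixedBy X x) + Nat.card (fixedBy (G ⧸ H) (f w))) :=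
        Nat.mul_le_mul_left _ h3
    _ = b * Nat.card (fixedBy X x) + b * Nat.card (fixedBy (G ⧸ H) (f w)) := Nat.mul_add _ _ _
    _ ≤ a * Nat.card (G ⧸ H) + b * Nat.card (fixedBy (G ⧸ H) (f w)) :=
        Nat.add_le_add_right (h1.trans (Nat.mul_le_mul_left _ h2)) _

/-- elements of order `p`, `p² ∤ |G|`, have the same number of fixed points -/
theorem fix_eq {G : Type u} [Group G] [Finite G] {p : ℕ} (hp : p.Prime) (h2 : ¬ p ^ 2 ∣ Nat.card G) {x y : G}
    (hx : orderOf x = p) (hy : orderOf y = p) (H : Subgroup G) :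
    Nat.card (fixedBy (G ⧸ H) x) = Nat.card (fixedBy (G ⧸ H) y) := by
  have key : ∀ {x y : G}, orderOf x = p → orderOf y = p →
      Nat.card (fixedBy (G ⧸ H) x) ≤ Nat.card (fixedBy (G ⧸ H) y) := by
    intro x y hx hy
    obtain ⟨g, hg⟩ := Cfsg.Agent.H843.Syl.exists_conj hp h2 (zpowers x) (zpowers y) (by rw [Nat.card_zpowers, hx])
      (by rw [Nat.card_zpowers, hy])
    have h3 : y ∈ (zpowers x).map (MulAut.conj g).toMonoidHom := by rw [hg]; exact mem_zpowers y
    obtain ⟨z, hz, hzy⟩ := h3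
    obtain ⟨k, rfl⟩ := mem_zpowers_iff.1 hz
    have h4 : y = g * x ^ k * g⁻¹ := hzy.symm
    have h5 : g⁻¹ * y * g = x ^ k := by rw [h4]; group
    rw [← card_fixedBy_conj H y g, h5]
    refine Nat.card_mono (Set.toFinite _) fun w hw => ?_
    have h6 : zpowers x ≤ stabilizer G w := zpowers_le.2 hw
    exact h6 (zpow_mem (mem_zpowers x) k)
  exact le_antisymm (key hx hy) (key hy hx)

/-- the check at a small index `d` -/
def excB (p N a b d : ℕ) : Bool :=
  (List.range (N / p + 1)).all fun f => (f != 0 && N % (p * f) != 0) || f % p != d % p || Nat.ble (b * f) (a * d)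

/-- **elements of order `p`, `p² ∤ |G|`** -/
theorem uGood_norm {G : Type u} [Group G] [Finite G] {p N K a b : ℕ} {exc : List ℕ} (hp : p.Prime)
    (h2 : ¬ p ^ 2 ∣ Nat.card G)
    (hN : ∀ R : Subgroup G, Nat.card R = p → Nat.card (normalizer (R : Set G)) = N)
    (hidx : ∀ H : Subgroup G, H ≠ ⊤ → H.index ∈ exc ∨ K ≤ H.index)
    (hK : b * (N / p) ≤ a * K) (hexc : (exc.all fun d => excB p N a b d) = true) {x : G} (hx : orderOf x = p) :
    UGood a b x := by
  intro H hH
  have hcard : Nat.card (G ⧸ H) = H.index := rfl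
  rw [hcard]
  have hmod := fix_modEq hp H hx
  have hdiv : Nat.card (fixedBy (G ⧸ H) x) = 0 ∨ p * Nat.card (fixedBy (G ⧸ H) x) ∣ N := by
    rcases fix_prime_all_dvd hp h2 H hx with h | ⟨R, hR, h⟩
    · exact Or.inl h
    · rw [hN R hR] at h
      exact Or.inr h
  have hNpos : 0 < N := by
    rw [← hN (zpowers x) (by rw [Nat.card_zpowers, hx])]
    exact Nat.card_pos
  set f := Nat.card (fixedBy (G ⧸ H) x)
  have hf : f ≤ N / p := by
    rcases hdiv with h | h
    · rw [h]; exact Nat.zero_le _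
    · rw [Nat.le_div_iff_mul_le hp.pos, mul_comm]
      exact Nat.le_of_dvd hNpos h
  rcases hidx H hH with h | h
  · rw [List.all_eq_true] at hexc
    have h3 := hexc _ h
    unfold excB at h3
    rw [List.all_eq_true] at h3
    have h4 := h3 f (List.mem_range.2 (by omega))
    rw [Bool.or_eq_true, Bool.or_eq_true, Bool.and_eq_true, bne_iff_ne, bne_iff_ne, bne_iff_ne, Nat.ble_eq] at h4
    rcases h4 with (h4 | h4) | h4
    · rcases hdiv with h5 | h5
      · exact absurd h5 h4.1
      · exact absurd (Nat.mod_eq_zero_of_dvd h5) h4.2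
    · exact absurd hmod h4
    · exact h4
  · exact (Nat.mul_le_mul_left b hf).trans (hK.trans (Nat.mul_le_mul_left a h))

/-- an upper bound for the fixed points from an upper bound for the centralizer -/
theorem fix_of_cent {G : Type u} [Group G] [Finite G] {p c : ℕ} (hp : p.Prime) (h2 : ¬ p ^ 2 ∣ Nat.card G)
    (hc : ∀ x : G, orderOf x = p → Nat.card (centralizer ({x} : Set G)) ≤ p * c) (H : Subgroup G) {x : G}
    (hx : orderOf x = p) : Nat.card (fixedBy (G ⧸ H) x) ≤ (p - 1) * c := by
  have h3 := fix_prime_all hp h2 (N := (p - 1) * (p * c)) (fun R hR => by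
    obtain ⟨y, hy, rfl⟩ := eq_zpowers' hp hR
    refine (card_normalizer_le hp hR).trans (Nat.mul_le_mul_left _ ?_)
    rw [cent_zpowers']
    exact hc y hy) H hx
  refine Nat.le_of_mul_le_mul_left (h3.trans (le_of_eq ?_)) hp.pos
  ring

end Cfsg.Agent.H433.Fpr
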